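import Cfsg.Agent.FM.Eng2
import Cfsg.Agent.FM.T23

set_option autoImplicit false
set_option maxRecDepth 100000
set_option Elab.async false

namespace Cfsg.Agent.FM.H23.ZK

open Cfsg.Agent.FM Cfsg.Agent.FM.Mdl Cfsg.Agent.FM.F23

def Xs : List Ex := []
noncomputable def Zs : List ℕ := []
noncomputable def Zsl : List (List ℕ) := []
def As : List Ex := [(.ps [3510]), (.ps [693])]
def ws : List (List ℕ) := [[1], [0]]
noncomputable def gens : List Ex := lmap (wd As) ws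
def aux : List Ex := []

theorem k0 : cd.rej ⟨[0, 2, 10, 37, 105, 13, 46, 107], Xs, Zs⟩ ⟨[0, 2, 10, 37, 105, 13, 46, 107], Xs, Zs⟩ [] 710 (.comm (.pt 3) .var false .tt) [693, 3510, 3511, 3513] = true := by decide +kernel
theorem k1 : cd.lvl [0, 2, 10, 37, 105, 13, 46, 107] Xs Zs [(.tr (.pt 0) (.pt 1)), (.tr (.pt 3) (.tr (.pt 1) (.pt 2))), (.tr (.tr (.pt 4) (.pt 5)) (.tr (.pt 3) (.pt 7))), (.tr (.pt 9) (.tr (.pt 6) (.pt 10)))] (.and (.and (.and (.and (.adj 4) (.adj 3)) (.adj 2)) (.adj 1)) (.adj 0)) 710 [[693, 3510, 3511, 3513]] (sel gens [0]) [] (.stk (decR [0x2])) 2 = true := by decide +kernel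
theorem k2 : cd.rej ⟨[710, 0, 2, 10, 37, 105, 13, 46, 107], Xs, Zs⟩ ⟨[710, 0, 2, 10, 37, 105, 13, 46, 107], Xs, Zs⟩ [] 3518 (.comm (.pt 5) .var true (.comm (.pt 3) .var true .tt)) [22, 44, 741, 812, 3626, 3681] = true := by decide +kernel
theorem k3 : cd.lvl [710, 0, 2, 10, 37, 105, 13, 46, 107] Xs Zs [(.tr (.pt 1) (.pt 2)), (.tr (.pt 1) (.tr (.pt 4) (.pt 5))), (.tr (.tr (.pt 4) (.pt 5)) (.tr (.pt 8) (.pt 9)))] (.dif (.and (.and (.and (.adj 2) (.adj 3)) (.adj 1)) (.adj 0)) (.adj 4)) 3518 [[22, 44, 741, 812, 3626, 3681]] (sel gens [1]) [] (.stk (decR [0x2])) 2 = true := by decide +kernel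
theorem k4 : (cd.ltL [3518, 710, 0, 2, 10, 37, 105, 13, 46, 107] && subL cd.bs (cd.ext ⟨[3518, 710, 0, 2, 10, 37, 105, 13, 46, 107], Xs, Zs⟩ [(.pt 2), (.tr (.pt 9) (.tr (.tr (.pt 2) (.pt 10)) (.tr (.tr (.pt 4) (.pt 5)) (.tr (.tr (.pt 1) (.pt 10)) (.tr (.tr (.pt 8) (.pt 9)) (.tr (.tr (.pt 6) (.pt 7)) (.tr (.tr (.pt 1) (.pt 10)) (.pt 3)))))))), (.tr (.tr (.pt 5) (.pt 9)) (.tr (.tr (.pt 3) (.pt 11)) (.tr (.tr (.pt 6) (.pt 7)) (.tr (.tr (.pt 5) (.pt 9)) (.pt 4))))), (.tr (.tr (.pt 3) (.pt 12)) (.tr (.tr (.pt 10) (.pt 11)) (.tr (.tr (.pt 8) (.pt 9)) (.tr (.tr (.pt 3) (.pt 12)) (.pt 5))))), (.tr (.tr (.pt 5) (.pt 13)) (.tr (.tr (.pt 7) (.pt 11)) (.tr (.tr (.pt 4) (.pt 6)) (.tr (.pt 10) (.tr (.tr (.pt 5) (.pt 11)) (.tr (.pt 13) (.pt 12))))))), (.tr (.tr (.pt 12) (.pt 13)) (.tr (.tr (.pt 8) (.pt 12)) (.tr (.pt 14) (.tr (.tr (.pt 10)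 (.pt 11)) (.pt 9)))))])) = true := by decide +kernel
theorem k5 : cd.memCS Xs Zs Zsl As = true := by decide +kernel
theorem k6 : cd.memCS Xs Zs Zsl aux = true := by decide +kernel

theorem gens_CS {G : Type*} [Group G] {D : Set G} (M : Mdl G D cd) : ∀ a ∈ As, M.ev a ∈ M.CS Xs Zs :=
  memCS_spec k5

theorem aux_CS {G : Type*} [Group G] {D : Set G} (M : Mdl G D cd) : ∀ a ∈ aux, M.ev a ∈ M.CS Xs Zs :=
  memCS_spec k6

theorem res {G : Type*} [Group G] {D : Set G} (M : Mdl G D cd) {K : Subgroup G} (hK : ∀ a ∈ As, M.ev a ∈ K) :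
    Res (M.CS Xs Zs ⊓ M.FixL [0, 2, 10, 37, 105, 13, 46, 107]) K 4 := by
  have h := stab_CS (M := M) Xs Zs
  have hG := wd_mem (mem_inf_of (gens_CS M) hK) ws
  refine Res.cast (N := (2 * (2 * 1))) ?_ rfl
  exact lvl_step h (sel_mem hG _) k1
    (NoMaps.rej k0 NoMaps.nil) <|
  lvl_step h (sel_mem hG _) k3
    (NoMaps.rej k2 NoMaps.nil) <|
  base h [(.pt 2), (.tr (.pt 9) (.tr (.tr (.pt 2) (.pt 10)) (.tr (.tr (.pt 4) (.pt 5)) (.tr (.tr (.pt 1) (.pt 10)) (.tr (.tr (.pt 8) (.pt 9)) (.tr (.tr (.pt 6) (.pt 7)) (.tr (.tr (.pt 1) (.pt 10)) (.pt 3)))))))), (.tr (.tr (.pt 5) (.pt 9)) (.tr (.tr (.pt 3) (.pt 11)) (.tr (.tr (.pt 6) (.pt 7)) (.tr (.tr (.pt 5) (.pt 9)) (.pt 4))))), (.tr (.tr (.pt 3) (.pt 12)) (.tr (.tr (.pt 10) (.pt 11)) (.tr (.tr (.pt 8) (.pt 9)) (.tr (.tr (.pt 3) (.pt 12)) (.pt 5))))), (.tr (.tr (.pt 5) (.pt 13)) (.tr (.tr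 (.pt 7) (.pt 11)) (.tr (.tr (.pt 4) (.pt 6)) (.tr (.pt 10) (.tr (.tr (.pt 5) (.pt 11)) (.tr (.pt 13) (.pt 12))))))), (.tr (.tr (.pt 12) (.pt 13)) (.tr (.tr (.pt 8) (.pt 12)) (.tr (.pt 14) (.tr (.tr (.pt 10) (.pt 11)) (.pt 9)))))] (List.cons_ne_nil _ _) k4

theorem card {G : Type*} [Group G] {D : Set G} (M : Mdl G D cd) : Nat.card ↥(M.CS Xs Zs ⊓ M.FixL [0, 2, 10, 37, 105, 13, 46, 107]) = 4 :=
  (res M (K := ⊤) fun _ _ => trivial).2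

end Cfsg.Agent.FM.H23.ZK
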