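import Cfsg.Agent.FM.Eng2
import Cfsg.Agent.FM.T23

set_option autoImplicit false
set_option maxRecDepth 100000
set_option Elab.async false

namespace Cfsg.Agent.FM.H23.C3A

open Cfsg.Agent.FM Cfsg.Agent.FM.Mdl Cfsg.Agent.FM.F23

def Xs : List Ex := [(.ps [3510, 3511])]
noncomputable def Zs : List ℕ := []
noncomputable def Zsl : List (List ℕ) := []
def As : List Ex := [(.ps [3510, 3511]), (.w [0]), (.w [1]), (.w [2]), (.w [3]), (.w [5]), (.w [6]), (.w [7]), (.w [8]), (.w [9])]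
def ws : List (List ℕ) := [[2], [9], [1], [3], [5], [4], [6], [7], [8], [0], [1, 9], [5, 2, 5], [7, 6, 1, 9], [1, 5, 9, 8, 6, 1], [7, 2, 3, 4, 7, 3, 2], [5, 9, 8, 2, 1, 3, 7, 9, 1, 8, 5, 9, 8, 2, 1, 3, 7, 9, 1, 8, 5, 2, 5], [1, 5, 9, 8, 6, 1, 5, 9, 8, 2, 1, 3, 7, 9, 1, 8, 7, 2, 3, 4, 7, 3, 2, 9, 1, 6, 2, 3, 4, 7, 3, 2, 9, 7, 5, 6, 8, 5], [5, 2, 5, 9, 1, 6, 7, 3, 5, 2, 5, 6, 8, 5, 1, 7, 6, 8, 9, 7, 8, 2, 1, 9, 2, 8, 9, 7, 2, 3, 7, 4, 3, 2, 7, 5, 2, 5, 3, 5, 7, 6, 8, 1, 9, 8, 7, 2, 3, 7, 4, 3, 2, 7], [3, 5, 2, 5, 9, 1, 6, 7, 3, 5, 7, 6, 8, 1, 9, 8, 7, 5, 4, 6, 2, 4, 7, 8, 9, 5, 7, 8, 9, 1, 8, 6, 7, 5, 3, 9, 1, 6, 2, 3, 4, 7, 3, 2, 1, 5, 9, 8, 6, 1, 5, 2, 5]]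
noncomputable def gens : List Ex := lmap (wd As) ws
def aux : List Ex := []
noncomputable def r4 : List ℕ := (decQ [0xc7500600003fb0024f001fe0019000104])

theorem k0 : cd.rej ⟨[], Xs, Zs⟩ ⟨[], Xs, Zs⟩ [] 2219 (.eq (.appI 0 .var) (.tr .var (.app 0 .var)) false .tt) [0, 3510, 3511, 3513, 8469] = true := by decide +kernel
theorem k1 : cd.lvl [] Xs Zs [] .all 2219 [[0, 3510, 3511, 3513, 8469]] (sel gens [0, 1, 2, 3, 4, 5, 6, 7, 8, 9, 10]) (decR [0xd0219d0548464094473102941cc520c41]) (.simd (decR [0x1844094eb50544188a609c652092839823])) 9477 = true := by decide +kernel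
theorem k2 : cd.lvl [2219] Xs Zs [(.appI 0 (.pt 0)), (.app 0 (.pt 1)), (.tr (.pt 2) (.app 0 (.pt 2))), (.tr (.pt 3) (.appI 0 (.pt 3))), (.tr (.app 0 (.pt 4)) (.appI 0 (.pt 4)))] (.dif (.dif (.dif (.dif (.dif (.dif .all (.adj 5)) (.adj 4)) (.adj 3)) (.adj 2)) (.adj 1)) (.adj 0)) 21920 [] (sel gens [3, 11, 12, 13, 14]) [] (.simd (decR [0xa30886110ca308883088651844418441])) 15120 = true := by decide +kernel
theorem k3 : cd.lvl [21920, 2219] Xs Zs [(.tr (.pt 1) (.appI 0 (.pt 0))), (.tr (.tr (.pt 1) (.pt 2)) (.app 0 (.pt 2))), (.tr (.pt 3) (.tr (.pt 2) (.appI 0 (.pt 3))))] (.dif (.and (.and (.adj 2) (.adj 1)) (.adj 0)) (.adj 4)) 976 [] (sel gens [15, 16, 17]) [] (.stk (decR [0xc210846108c43084230842110c6218881084210842310c2108c210844318862190431886218c211888108863084210846108c4310c62])) 48 = true := by decide +kernel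
theorem k5 : cd.rej ⟨[976, 21920, 2219], Xs, Zs⟩ ⟨[976, 21920, 2219], Xs, Zs⟩ [] 2227 (.comm (.appI 0 (.pt 1)) .var false (.comm (.tr (.pt 1) (.app 0 (.pt 0))) .var false (.comm (.app 0 (.pt 0)) .var false .tt))) r4 = true := by decide +kernel
theorem k6 : cd.lvl [976, 21920, 2219] Xs Zs [(.tr (.pt 0) (.pt 2)), (.tr (.pt 2) (.pt 3)), (.tr (.tr (.pt 2) (.pt 3)) (.appI 0 (.pt 4))), (.app 0 (.tr (.pt 3) (.pt 4)))] (.and (.and (.and (.adj 3) (.adj 2)) (.adj 1)) (.adj 0)) 2227 [r4] (sel gens [18]) [] (.stk (decR [0x2])) 2 = true := by decide +kernel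
theorem k7 : (cd.ltL [2227, 976, 21920, 2219] && subL cd.bs (cd.ext ⟨[2227, 976, 21920, 2219], Xs, Zs⟩ [(.tr (.tr (.pt 1) (.pt 3)) (.tr (.tr (.pt 0) (.tr (.pt 1) (.pt 2))) (.tr (.appI 0 (.pt 0)) (.tr (.app 0 (.pt 3)) (.tr (.pt 0) (.pt 1)))))), (.app 0 (.tr (.tr (.pt 3) (.tr (.pt 2) (.pt 4))) (.tr (.app 0 (.pt 2)) (.tr (.appI 0 (.pt 1)) (.tr (.pt 3) (.pt 4)))))), (.tr (.tr (.pt 2) (.pt 3)) (.tr (.app 0 (.pt 4)) (.tr (.tr (.pt 3) (.tr (.pt 2) (.pt 4))) (.tr (.app 0 (.pt 2)) (.tr (.pt 4) (.pt 5)))))), (.tr (.tr (.pt 4) (.tr (.pt 3) (.pt 5))) (.tr (.appI 0 (.pt 3)) (.pt 3))), (.pt 6), (.tr (.tr (.pt 7) (.tr (.pt 5) (.pt 6))) (.tr (.tr (.pt 7) (.pt 8)) (.tr (.app 0 (.pt 8)) (.tr (.appI 0 (.pt 5)) (.tr (.pt 5) (.pt 7))))))])) = true := by decide +kernel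
theorem k8 : cd.memCS Xs Zs Zsl As = true := by decide +kernel
theorem k9 : cd.memCS Xs Zs Zsl aux = true := by decide +kernel

theorem gens_CS {G : Type*} [Group G] {D : Set G} (M : Mdl G D cd) : ∀ a ∈ As, M.ev a ∈ M.CS Xs Zs :=
  memCS_spec k8

theorem aux_CS {G : Type*} [Group G] {D : Set G} (M : Mdl G D cd) : ∀ a ∈ aux, M.ev a ∈ M.CS Xs Zs :=
  memCS_spec k9

theorem res {G : Type*} [Group G] {D : Set G} (M : Mdl G D cd) {K : Subgroup G} (hK : ∀ a ∈ As, M.ev a ∈ K) :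
    Res (M.CS Xs Zs ⊓ M.FixL []) K 13756055040 := by
  have h := stab_CS (M := M) Xs Zs
  have hG := wd_mem (mem_inf_of (gens_CS M) hK) ws
  refine Res.cast (N := (9477 * (15120 * (48 * (2 * 1))))) ?_ rfl
  exact lvl_step h (sel_mem hG _) k1
    (NoMaps.rej k0 NoMaps.nil) <|
  lvl_step h (sel_mem hG _) k2
    NoMaps.nil <|
  lvl_step h (sel_mem hG _) k3
    NoMaps.nil <|
  lvl_step h (sel_mem hG _) k6
    (NoMaps.rej k5 NoMaps.nil) <|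
  base h [(.tr (.tr (.pt 1) (.pt 3)) (.tr (.tr (.pt 0) (.tr (.pt 1) (.pt 2))) (.tr (.appI 0 (.pt 0)) (.tr (.app 0 (.pt 3)) (.tr (.pt 0) (.pt 1)))))), (.app 0 (.tr (.tr (.pt 3) (.tr (.pt 2) (.pt 4))) (.tr (.app 0 (.pt 2)) (.tr (.appI 0 (.pt 1)) (.tr (.pt 3) (.pt 4)))))), (.tr (.tr (.pt 2) (.pt 3)) (.tr (.app 0 (.pt 4)) (.tr (.tr (.pt 3) (.tr (.pt 2) (.pt 4))) (.tr (.app 0 (.pt 2)) (.tr (.pt 4) (.pt 5)))))), (.tr (.tr (.pt 4) (.tr (.pt 3) (.pt 5))) (.tr (.appI 0 (.pt 3)) (.pt 3))), (.pt 6), (.tr (.tr (.pt 7) (.tr (.pt 5) (.pt 6))) (.tr (.tr (.pt 7) (.pt 8)) (.tr (.app 0 (.pt 8)) (.tr (.appI 0 (.pt 5)) (.tr (.pt 5) (.pt 7))))))] (List.cons_ne_nil _ _) k7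

theorem card {G : Type*} [Group G] {D : Set G} (M : Mdl G D cd) : Nat.card ↥(M.CS Xs Zs ⊓ M.FixL []) = 13756055040 :=
  (res M (K := ⊤) fun _ _ => trivial).2

end Cfsg.Agent.FM.H23.C3A
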